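import Groth.Agent.WeilLib.FixedPts

/-!
# Closed points by degree and elementary properties of the zeta function
-/

universe u

set_option backward.isDefEq.respectTransparency false
set_option linter.style.haveILetI false
set_option linter.unusedSectionVars false
set_option maxHeartbeats 1000000

open CategoryTheory CategoryTheory.Limits AlgebraicGeometry PowerSeries

namespace Groth.Agent.ZetaLib

open Groth.Agent.WeilLib

variable {k : Type u} [Field k] {X Y : Scheme.{u}} (f : X ⟶ Spec (CommRingCat.of k))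

theorem residueFieldMap_bijective (g : Y ⟶ X) [IsPreimmersion g] (y : Y) :
    Function.Bijective (g.residueFieldMap y).hom := by
  refine ⟨(g.residueFieldMap y).hom.injective, fun a => ?_⟩
  obtain ⟨b, rfl⟩ := IsLocalRing.residue_surjective a
  obtain ⟨c, rfl⟩ := g.stalkMap_surjective y b
  exact ⟨IsLocalRing.residue _ c, rfl⟩

theorem kStr_comp' (g : Y ⟶ X) (y : Y) :
    (g.residueFieldMap y).hom.comp (kStr f (g y)) = kStr (g ≫ f) y :=
  kStr_comp _ _ _ rfl y

/-- The residue field extension of an immersion. -/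
theorem nonempty_residueEquiv (g : Y ⟶ X) [IsPreimmersion g] (y : Y) :
    letI := (kStr (g ≫ f) y).toAlgebra
    letI := (kStr f (g y)).toAlgebra
    Nonempty (X.residueField (g y) ≃ₐ[k] Y.residueField y) := by
  letI := (kStr (g ≫ f) y).toAlgebra
  letI := (kStr f (g y)).toAlgebra
  refine ⟨AlgEquiv.ofRingEquiv (f := RingEquiv.ofBijective (g.residueFieldMap y).hom
    (residueFieldMap_bijective g y)) fun c => ?_⟩
  exact RingHom.congr_fun (kStr_comp' f g y) c

theorem residueDegree_comp (g : Y ⟶ X) [IsPreimmersion g] (y : Y) :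
    EGA4loc.residueDegree (g ≫ f) y = EGA4loc.residueDegree f (g y) := by
  rw [residueDegree_eq_finrank, residueDegree_eq_finrank]
  letI := (kStr (g ≫ f) y).toAlgebra
  letI := (kStr f (g y)).toAlgebra
  obtain ⟨e⟩ := nonempty_residueEquiv f g y
  exact e.toLinearEquiv.finrank_eq.symm

section Finite

variable [Finite k] [LocallyOfFiniteType f]

theorem degree_pos {x : X} (hx : IsClosed ({x} : Set X)) : 0 < EGA4loc.residueDegree f x := by
  rw [residueDegree_eq_finrank]
  letI := (kStr f x).toAlgebra
  haveI := (finite_residueField_iff f x).2 hx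
  exact Module.finrank_pos

include f in
theorem isClosed_singleton_comp (g : Y ⟶ X) [IsPreimmersion g] [LocallyOfFiniteType g] (y : Y) :
    IsClosed ({y} : Set Y) ↔ IsClosed ({g y} : Set X) := by
  rw [← finite_residueField_iff (g ≫ f) y, ← finite_residueField_iff f (g y)]
  letI := (kStr (g ≫ f) y).toAlgebra
  letI := (kStr f (g y)).toAlgebra
  obtain ⟨e⟩ := nonempty_residueEquiv f g y
  exact ⟨fun _ => Module.Finite.equiv e.symm.toLinearEquiv, fun _ => Module.Finite.equiv e.toLinearEquiv⟩

theorem finite_degPts [QuasiCompact f] (e : ℕ) :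
    Finite {x : X // IsClosed ({x} : Set X) ∧ EGA4loc.residueDegree f x = e} := by
  classical
  by_cases hne : Nonempty {x : X // IsClosed ({x} : Set X) ∧ EGA4loc.residueDegree f x = e}
  · obtain ⟨⟨x₀, h₀, he₀⟩⟩ := hne
    letI := (kStr f x₀).toAlgebra
    haveI := (finite_residueField_iff f x₀).2 h₀
    haveI : Finite (X.residueField x₀) := Module.finite_of_finite k
    haveI := finite_points_ext f (X.residueField x₀)
    have hex : ∀ x : {x : X // IsClosed ({x} : Set X) ∧ EGA4loc.residueDegree f x = e},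
        ∃ φ : X.residueField x.1 →+* X.residueField x₀, φ.comp (kStr f x.1) = algebraMap k _ := by
      intro ⟨x, hx, hex⟩
      letI := (kStr f x).toAlgebra
      haveI := (finite_residueField_iff f x).2 hx
      haveI : Finite (X.residueField x) := Module.finite_of_finite k
      have hd : Module.finrank k (X.residueField x) = Module.finrank k (X.residueField x₀) := by
        have h1 := residueDegree_eq_finrank f x
        have h2 := residueDegree_eq_finrank f x₀
        rw [hex] at h1; rw [he₀] at h2
        exact h1.symm.trans h2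
      obtain ⟨ψ⟩ := FiniteField.nonempty_algHom_of_finrank_dvd (F := k) (K := X.residueField x) (L := X.residueField x₀) hd.dvd
      exact ⟨ψ.toRingHom, ψ.comp_algebraMap⟩
    choose φ hφ using hex
    refine Finite.of_injective (fun x => (⟨Spec.map (CommRingCat.ofHom (φ x)) ≫ X.fromSpecResidueField x.1, ?_⟩ :
      {g : Spec (CommRingCat.of (X.residueField x₀)) ⟶ X //
        g ≫ f = Spec.map (CommRingCat.ofHom (algebraMap k (X.residueField x₀)))})) fun x x' h => ?_
    · rw [Category.assoc, fromSpecResidueField_comp, ← Spec.map_comp]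
      exact congrArg Spec.map (CommRingCat.hom_ext (hφ x))
    · have h1 := congrArg (fun g : Spec (CommRingCat.of (X.residueField x₀)) ⟶ X =>
        g (IsLocalRing.closedPoint (X.residueField x₀))) (congrArg Subtype.val h)
      simp only [Scheme.Hom.comp_apply] at h1
      exact Subtype.ext (((X.fromSpecResidueField_apply x.1 _).symm.trans h1).trans (X.fromSpecResidueField_apply x'.1 _))
  · rw [not_nonempty_iff] at hne
    infer_instance

theorem degCount_zero : Zeta.degCount f 0 = 0 := by
  haveI : IsEmpty {x : X // IsClosed ({x} : Set X) ∧ EGA4loc.residueDegree f x = 0} :=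
    ⟨fun x => (degree_pos f x.2.1).ne' x.2.2⟩
  exact Nat.card_of_isEmpty

theorem degCount_eq_sum [QuasiCompact f] {ι : Type u} [Fintype ι] (Y : ι → Scheme.{u})
    (g : ∀ i, Y i ⟶ X) [∀ i, IsImmersion (g i)]
    (hpart : ∀ x : X, IsClosed ({x} : Set X) → ∃! i, x ∈ Set.range (g i).base) (e : ℕ) :
    Zeta.degCount f e = ∑ i, Zeta.degCount (g i ≫ f) e := by
  classical
  let T : ∀ i, Type u := fun i =>
    {y : Y i // IsClosed ({y} : Set (Y i)) ∧ EGA4loc.residueDegree (g i ≫ f) y = e}
  haveI := finite_degPts f e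
  let Φ : (Σ i, T i) → {x : X // IsClosed ({x} : Set X) ∧ EGA4loc.residueDegree f x = e} := fun p =>
    ⟨g p.1 p.2.1, (isClosed_singleton_comp f (g p.1) p.2.1).1 p.2.2.1,
      (residueDegree_comp f (g p.1) p.2.1).symm.trans p.2.2.2⟩
  have hinj : Function.Injective Φ := by
    rintro ⟨i, y, hy⟩ ⟨j, z, hz⟩ h
    have h1 : g i y = g j z := congrArg Subtype.val h
    have hij : i = j := (hpart _ ((isClosed_singleton_comp f (g i) y).1 hy.1)).unique ⟨y, rfl⟩ ⟨z, h1.symm⟩
    subst hij
    obtain rfl := (g i).isEmbedding.injective h1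
    rfl
  have hsurj : Function.Surjective Φ := by
    rintro ⟨x, hx, hxe⟩
    obtain ⟨i, ⟨y, rfl⟩, -⟩ := hpart x hx
    exact ⟨⟨i, y, (isClosed_singleton_comp f (g i) y).2 hx,
      (residueDegree_comp f (g i) y).trans hxe⟩, rfl⟩
  haveI : ∀ i, Finite (T i) := fun i => Finite.of_injective (fun t => Φ ⟨i, t⟩)
    (hinj.comp sigma_mk_injective)
  exact (Nat.card_congr (Equiv.ofBijective Φ ⟨hinj, hsurj⟩)).symm.trans Nat.card_sigma

end Finite

theorem logD_zetaFun :
    LogD (Zeta.zetaFun f) (PowerSeries.mk fun m => (Zeta.nPts f (m + 1) : ℚ)) ∧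
      PowerSeries.constantCoeff (Zeta.zetaFun f) = 1 := by
  obtain ⟨h1, h2⟩ := logD_exp_subst (K := ℚ) (fun m => (Zeta.nPts f m : ℚ)) (by simp [Zeta.nPts])
  simp only [Algebra.algebraMap_self, PowerSeries.map_id, RingHom.id_apply, Rat.cast_natCast] at h1 h2
  exact ⟨h1, h2⟩

theorem zetaFun_eq_prod [Finite k] [LocallyOfFiniteType f] [QuasiCompact f] {ι : Type u} [Fintype ι]
    (Y : ι → Scheme.{u}) (g : ∀ i, Y i ⟶ X) [∀ i, IsImmersion (g i)]
    (hpart : ∀ x : X, IsClosed ({x} : Set X) → ∃! i, x ∈ Set.range (g i).base) :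
    Zeta.zetaFun f = ∏ i, Zeta.zetaFun (g i ≫ f) := by
  refine LogD.unique (logD_zetaFun f).1 ?_ ?_
  · have h := LogD.prod Finset.univ fun i _ => (logD_zetaFun (g i ≫ f)).1
    have he : (∑ i, PowerSeries.mk fun m => (Zeta.nPts (g i ≫ f) (m + 1) : ℚ)) =
        PowerSeries.mk fun m => (Zeta.nPts f (m + 1) : ℚ) := by
      ext m
      rw [map_sum]
      simp only [PowerSeries.coeff_mk, Zeta.nPts, degCount_eq_sum f Y g hpart, Finset.mul_sum]
      rw [Finset.sum_comm]
      push_cast
      rfl
    exact he ▸ h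
  · rw [(logD_zetaFun f).2, map_prod, Finset.prod_eq_one fun i _ => (logD_zetaFun (g i ≫ f)).2]

end Groth.Agent.ZetaLib
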