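import Groth.Agent.ZetaLib.Basic

/-!
# Logarithmic derivatives of elementary Euler factors
-/

universe u

open PowerSeries Finset

namespace Groth.Agent.ZetaLib

open Groth.Agent.WeilLib

theorem LogD.pow {R : Type*} [CommRing R] {G a : R⟦X⟧} (h : LogD G a) (n : ℕ) : LogD (G ^ n) (n • a) := by
  induction n with
  | zero => simp [LogD]
  | succ n ih => rw [pow_succ, succ_nsmul]; exact ih.mul h

/-- The logarithmic derivative of `1 - c t^r`. -/
theorem logD_euler {R : Type*} [CommRing R] (c : R) {r : ℕ} (hr : 0 < r) :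
    LogD (1 - PowerSeries.C c * PowerSeries.X ^ r)
      (PowerSeries.mk fun m => if r ∣ m + 1 then -(r : R) * c ^ ((m + 1) / r) else 0) := by
  unfold LogD
  ext m
  rw [coeff_derivative, sub_mul, one_mul, map_sub, map_sub, mul_assoc, coeff_C_mul, coeff_C_mul,
    coeff_X_pow_mul', coeff_one, coeff_X_pow, coeff_mk, if_neg (Nat.succ_ne_zero m)]
  rcases lt_trichotomy (m + 1) r with h | h | h
  · rw [if_neg h.ne, if_neg (by omega : ¬ r ≤ m), if_neg fun hd => absurd (Nat.le_of_dvd (by omega) hd) (by omega)]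
    simp
  · rw [if_pos h, if_neg (by omega : ¬ r ≤ m), if_pos (h ▸ dvd_refl _)]
    subst h
    rw [Nat.div_self (by omega)]
    push_cast
    ring
  · rw [if_neg (by omega : ¬ m + 1 = r), if_pos (by omega : r ≤ m), coeff_mk, show m - r + 1 = m + 1 - r by omega]
    by_cases hd : r ∣ m + 1
    · rw [if_pos hd, if_pos (Nat.dvd_sub hd dvd_rfl)]
      have h2 : (m + 1) / r = (m + 1 - r) / r + 1 := by
        conv_lhs => rw [show m + 1 = m + 1 - r + r by omega, Nat.add_div_right _ hr]
      rw [h2, pow_succ]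
      ring
    · rw [if_neg hd, if_neg fun hd' => hd ?_]
      · simp
      · rw [show m + 1 = m + 1 - r + r by omega]; exact dvd_add hd' dvd_rfl

theorem constantCoeff_euler {R : Type*} [CommRing R] (c : R) {r : ℕ} (hr : 0 < r) :
    PowerSeries.constantCoeff (1 - PowerSeries.C c * PowerSeries.X ^ r) = 1 := by
  simp [hr.ne']

/-- A series whose logarithmic derivative vanishes up to order `n` is `1` up to order `n`. -/
theorem LogD.coeff_eq_zero {G a : ℚ⟦X⟧} (h : LogD G a) (n : ℕ) (ha : ∀ m, m < n → PowerSeries.coeff m a = 0)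
    {j : ℕ} (h1 : 1 ≤ j) (hj : j ≤ n) : PowerSeries.coeff j G = 0 := by
  obtain ⟨m, rfl⟩ : ∃ m, j = m + 1 := ⟨j - 1, by omega⟩
  have h2 := congrArg (PowerSeries.coeff m) h
  rw [coeff_derivative, coeff_mul, Finset.sum_eq_zero fun x hx => by
    rw [ha x.2 (by have := Finset.HasAntidiagonal.mem_antidiagonal.mp hx; omega), mul_zero]] at h2
  exact (mul_eq_zero.1 h2).resolve_right (by positivity)

end Groth.Agent.ZetaLib
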