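import Groth.Agent.PicPn.Chart
import Groth.Agent.ProjMor.Base

/-!
# Points of projective space with values in a field
-/

universe u

set_option backward.isDefEq.respectTransparency false
set_option linter.style.haveILetI false

open CategoryTheory AlgebraicGeometry TopologicalSpace
open Groth.Agent.QC (res resO)

namespace Groth.Agent.ZetaLib

variable {k : Type u} [Field k] (n : ℕ) (K : Type u) [Field K] [Algebra k K]

/-- Normalised coordinate vectors. -/
abbrev NormVec : Type u :=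
  Σ j : Fin (n + 1), {v : Fin (n + 1) → K // v j = 1 ∧ ∀ i, i < j → v i = 0}

theorem card_normVec [Finite K] : Nat.card (NormVec n K) = ∑ i ∈ Finset.range (n + 1), Nat.card K ^ i := by
  have e : ∀ j : Fin (n + 1), Nat.card {v : Fin (n + 1) → K // v j = 1 ∧ ∀ i, i < j → v i = 0} =
      Nat.card K ^ (n - j.1) := fun j => by
    let inv : ({i : Fin (n + 1) // j < i} → K) →
        {v : Fin (n + 1) → K // v j = 1 ∧ ∀ i, i < j → v i = 0} := fun w =>
      ⟨fun i => if h : j < i then w ⟨i, h⟩ else if i = j then 1 else 0,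
        by simp, fun i hi => by simp [hi.ne, hi.not_gt]⟩
    rw [Nat.card_congr (β := {i : Fin (n + 1) // j < i} → K)
      { toFun := fun v i => v.1 i.1
        invFun := inv
        left_inv := fun v => Subtype.ext (funext fun i => by
          rcases lt_trichotomy i j with h | h | h
          · simp [inv, h.not_gt, h.ne, v.2.2 i h]
          · subst h; simp [inv, v.2.1]
          · simp [inv, h])
        right_inv := fun w => funext fun i => by simp [inv, i.2] }, Nat.card_fun, Nat.card_eq_fintype_card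
      (α := {i : Fin (n + 1) // j < i}), Fintype.card_subtype, Finset.filter_lt_eq_Ioi, Fin.card_Ioi]
    congr 1
  rw [Nat.card_sigma]
  simp_rw [e]
  rw [← Fin.sum_univ_eq_sum_range (fun i => Nat.card K ^ i) (n + 1)]
  refine Fintype.sum_equiv Fin.revPerm _ _ fun j => ?_
  simp [Fin.val_rev]

/-- The identification of global functions of `Spec K` with `K`. -/
noncomputable def gam : Γ(Spec (CommRingCat.of K), ⊤) ≃+* K :=
  (Scheme.ΓSpecIso (CommRingCat.of K)).commRingCatIsoToRingEquiv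

variable {n K}

theorem hom_eq_iff_toGlobal (b : Spec (CommRingCat.of K) ⟶ Spec (CommRingCat.of k)) :
    b = Spec.map (CommRingCat.ofHom (algebraMap k K)) ↔
      ∀ c, gam K (ProjUP.toGlobal b c) = algebraMap k K c := by
  have key : ∀ c, gam K (ProjUP.toGlobal (Spec.map (CommRingCat.ofHom (algebraMap k K))) c) = algebraMap k K c := by
    intro c
    show (Scheme.ΓSpecIso (CommRingCat.of K)).hom ((Spec.map (CommRingCat.ofHom (algebraMap k K))).appTop
      ((Scheme.ΓSpecIso (CommRingCat.of k)).inv c)) = _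
    rw [← CommRingCat.comp_apply, ← CommRingCat.comp_apply, Scheme.ΓSpecIso_naturality, Iso.inv_hom_id_assoc]
    rfl
  refine ⟨fun h => h ▸ key, fun h => ext_of_isAffine ?_⟩
  ext x
  obtain ⟨c, rfl⟩ := (Scheme.ΓSpecIso (CommRingCat.of k)).commRingCatIsoToRingEquiv.symm.surjective x
  exact (gam K).injective ((h c).trans (key c).symm)

theorem mem_basicOpen_iff (s : Γ(Spec (CommRingCat.of K), ⊤)) :
    ⊤ ≤ (Spec (CommRingCat.of K)).basicOpen s ↔ gam K s ≠ 0 := by
  constructor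
  · intro h h0
    rw [show s = 0 from (gam K).injective (h0.trans (map_zero _).symm), Scheme.basicOpen_zero] at h
    exact h (show IsLocalRing.closedPoint K ∈ (⊤ : (Spec (CommRingCat.of K)).Opens) from trivial)
  · intro h
    rw [Scheme.basicOpen_of_isUnit]
    exact (isUnit_map_iff (gam K) s).1 (IsUnit.mk0 _ h)

/-- The chart containing a point, and the coordinates there. -/
noncomputable def coords (g : Spec (CommRingCat.of K) ⟶ PicPn.P n k) (j : Fin (n + 1))
    (h : ⊤ ≤ g ⁻¹ᵁ PicPn.ch j) : Fin (n + 1) → K := fun i =>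
  gam K (ProjMor.ev g _ ⊤ h (GrT.deh _ (PicPn.X_mem j) (MvPolynomial.X i)))

theorem coords_self (g : Spec (CommRingCat.of K) ⟶ PicPn.P n k) (j : Fin (n + 1))
    (h : ⊤ ≤ g ⁻¹ᵁ PicPn.ch j) : coords g j h j = 1 := by
  rw [coords, GrT.deh_self, map_one, map_one]

theorem le_chart_iff (g : Spec (CommRingCat.of K) ⟶ PicPn.P n k) (j i : Fin (n + 1))
    (h : ⊤ ≤ g ⁻¹ᵁ PicPn.ch j) : ⊤ ≤ g ⁻¹ᵁ PicPn.ch i ↔ coords g j h i ≠ 0 := by
  rw [coords, ← mem_basicOpen_iff]
  have h1 : g ⁻¹ᵁ PicPn.ch j ⊓ g ⁻¹ᵁ PicPn.ch i =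
      (Spec (CommRingCat.of K)).basicOpen (g.app _ (PicPn.z j i)) := by
    rw [← Scheme.preimage_basicOpen, ← PicPn.ch_inf]
    rfl
  have h2 : (Spec (CommRingCat.of K)).basicOpen
      (ProjMor.ev g _ ⊤ h (GrT.deh _ (PicPn.X_mem j) (MvPolynomial.X i))) =
        (Spec (CommRingCat.of K)).basicOpen (g.app _ (PicPn.z j i)) := by
    show (Spec (CommRingCat.of K)).basicOpen ((Spec (CommRingCat.of K)).presheaf.map (homOfLE h).op
      (g.app _ (PicPn.z j i))) = _
    rw [Scheme.basicOpen_res, top_inf_eq]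
  rw [h2, ← h1, le_inf_iff]
  exact ⟨fun hi => ⟨h, hi⟩, fun hi => hi.2⟩

theorem exists_point (j : Fin (n + 1)) (v : Fin (n + 1) → K) (hv : v j = 1) :
    ∃ (g : Spec (CommRingCat.of K) ⟶ PicPn.P n k) (h : ⊤ ≤ g ⁻¹ᵁ PicPn.ch j),
      g ≫ CohB1.ProjSpace.toSpec n k = Spec.map (CommRingCat.ofHom (algebraMap k K)) ∧
        coords g j h = v := by
  let φ : MvPolynomial (Fin (n + 1)) k →+* Γ(Spec (CommRingCat.of K), ⊤) :=
    (gam K).symm.toRingHom.comp (MvPolynomial.eval₂Hom (algebraMap k K) v)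
  have hφ : φ (MvPolynomial.X j) = 1 := by simp [φ, hv]
  obtain ⟨g, h, hg⟩ := ProjMor.exists_hom_of_ringHom (PicPn.ch j) (PicPn.isAffineOpen_ch j)
    (ProjMor.chartHom (PicPn.X_mem j) φ hφ)
  refine ⟨g, h, (hom_eq_iff_toGlobal _).2 fun c => ?_, funext fun i => ?_⟩
  · have h1 := ProjMor.ev_deh_algebraMap (CohB1.polyGrading n k) g (q := g ≫ CohB1.ProjSpace.toSpec n k) rfl
      (PicPn.X_mem j) h c
    rw [hg, ProjMor.chartHom_deh] at h1
    have h2 := congrArg (gam K) h1
    simp only [QC.resO_self] at h2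
    refine h2.symm.trans ?_
    simp [φ, MvPolynomial.algebraMap_eq]
  · rw [coords, hg, ProjMor.chartHom_deh]
    simp [φ]

theorem hom_ext_coords {g g' : Spec (CommRingCat.of K) ⟶ PicPn.P n k}
    (hg : g ≫ CohB1.ProjSpace.toSpec n k = Spec.map (CommRingCat.ofHom (algebraMap k K)))
    (hg' : g' ≫ CohB1.ProjSpace.toSpec n k = Spec.map (CommRingCat.ofHom (algebraMap k K)))
    (j : Fin (n + 1)) (h : ⊤ ≤ g ⁻¹ᵁ PicPn.ch j) (h' : ⊤ ≤ g' ⁻¹ᵁ PicPn.ch j)
    (he : coords g j h = coords g' j h') : g = g' := by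
  have e : (ProjMor.ev g _ ⊤ h).comp (GrT.deh _ (PicPn.X_mem j)) =
      (ProjMor.ev g' _ ⊤ h').comp (GrT.deh _ (PicPn.X_mem j)) := by
    refine MvPolynomial.ringHom_ext (fun c => ?_) (fun i => (gam K).injective (congrFun he i))
    have h1 := ProjMor.ev_deh_algebraMap (CohB1.polyGrading n k) g (q := g ≫ CohB1.ProjSpace.toSpec n k) rfl
      (PicPn.X_mem j) h c
    have h2 := ProjMor.ev_deh_algebraMap (CohB1.polyGrading n k) g' (q := g' ≫ CohB1.ProjSpace.toSpec n k) rfl
      (PicPn.X_mem j) h' c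
    rw [hg] at h1
    rw [hg'] at h2
    exact h1.trans h2.symm
  have e2 := ProjMor.ι_comp_eq_of_ev_eq (PicPn.isAffineOpen_ch j) g g' h h' (RingHom.ext fun f => by
    obtain ⟨a, rfl⟩ := ProjMor.exists_deh_eq (PicPn.X_mem j) f
    exact RingHom.congr_fun e a)
  haveI : IsIso (⊤ : (Spec (CommRingCat.of K)).Opens).ι := (Spec (CommRingCat.of K)).topIso.isIso_hom
  exact (cancel_epi (⊤ : (Spec (CommRingCat.of K)).Opens).ι).1 e2

theorem card_points [Finite K] :
    Nat.card {g : Spec (CommRingCat.of K) ⟶ CohB1.ProjSpace n k //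
      g ≫ CohB1.ProjSpace.toSpec n k = Spec.map (CommRingCat.ofHom (algebraMap k K))} =
      ∑ i ∈ Finset.range (n + 1), Nat.card K ^ i := by
  classical
  rw [← card_normVec]
  choose pt hpt hptS hptC using fun p : NormVec n K => exists_point (k := k) p.1 p.2.1 p.2.2.1
  refine (Nat.card_congr (Equiv.ofBijective (fun p => (⟨pt p, hptS p⟩ :
    {g : Spec (CommRingCat.of K) ⟶ CohB1.ProjSpace n k //
      g ≫ CohB1.ProjSpace.toSpec n k = Spec.map (CommRingCat.ofHom (algebraMap k K))})) ⟨?_, ?_⟩)).symm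
  · have hmin : ∀ p i, i < p.1 → ¬ ⊤ ≤ pt p ⁻¹ᵁ PicPn.ch i := fun p i hi h => by
      rw [le_chart_iff (pt p) p.1 i (hpt p), hptC p] at h
      exact h (p.2.2.2 i hi)
    intro p q hpq
    have e : pt p = pt q := congrArg Subtype.val hpq
    obtain ⟨j, v⟩ := p
    obtain ⟨j', w⟩ := q
    obtain rfl : j = j' := by
      rcases lt_trichotomy j j' with h | h | h
      · exact absurd (e ▸ hpt ⟨j, v⟩) (hmin ⟨j', w⟩ j h)
      · exact h
      · exact absurd (e.symm ▸ hpt ⟨j', w⟩) (hmin ⟨j, v⟩ j' h)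
    have hvw : v.1 = w.1 := by
      rw [← hptC ⟨j, v⟩, ← hptC ⟨j, w⟩]
      congr 1
    rw [Subtype.ext hvw]
  · rintro ⟨g, hg⟩
    have hex : ∃ i, ⊤ ≤ g ⁻¹ᵁ PicPn.ch (k := k) i := by
      obtain ⟨i, hi⟩ := PicPn.exists_mem_ch (g (IsLocalRing.closedPoint K))
      exact ⟨i, fun z _ => by rwa [Subsingleton.elim (α := PrimeSpectrum K) z (IsLocalRing.closedPoint K)]⟩
    obtain ⟨j, hj⟩ : ∃ j, Minimal (fun i => ⊤ ≤ g ⁻¹ᵁ PicPn.ch (k := k) i) j := exists_minimal_of_wellFoundedLT _ hex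
    have hv : ∀ i, i < j → coords g j hj.1 i = 0 := fun i hi => by
      by_contra h
      exact hi.not_ge (hj.2 ((le_chart_iff g j i hj.1).2 h) hi.le)
    let p : NormVec n K := ⟨j, coords g j hj.1, coords_self g j hj.1, hv⟩
    exact ⟨p, Subtype.ext (hom_ext_coords (hptS p) hg j (hpt p) hj.1 (hptC p))⟩

end Groth.Agent.ZetaLib
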