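import Groth.Agent.ZetaLib.Series
import Groth.Agent.S13050
import Mathlib.RingTheory.PowerSeries.Expand
import Mathlib.FieldTheory.Finite.Extension

/-!
# Rescaling, substitution of powers, and the degree `m` extension
-/

universe u

open PowerSeries CategoryTheory AlgebraicGeometry

namespace Groth.Agent.ZetaLib

open Groth.Agent.WeilLib

theorem LogD.rescale {R : Type*} [CommRing R] {G a : R⟦X⟧} (h : LogD G a) (c : R) :
    LogD (PowerSeries.rescale c G) (PowerSeries.mk fun m => c ^ (m + 1) * PowerSeries.coeff m a) := by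
  have e : (PowerSeries.mk fun m => c ^ (m + 1) * PowerSeries.coeff m a) = PowerSeries.C c * PowerSeries.rescale c a := by
    ext m
    rw [coeff_mk, coeff_C_mul, coeff_rescale, pow_succ']
    ring
  have e2 : d⁄dX R (PowerSeries.rescale c G) = PowerSeries.C c * PowerSeries.rescale c (d⁄dX R G) := by
    ext m
    rw [coeff_derivative, coeff_rescale, coeff_C_mul, coeff_rescale, coeff_derivative, pow_succ']
    ring
  unfold LogD at h ⊢
  rw [e2, h, map_mul, e]
  ring

theorem LogD.expand {R : Type*} [CommRing R] {G a : R⟦X⟧} (h : LogD G a) {r : ℕ} (hr : 0 < r) :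
    LogD (PowerSeries.subst ((PowerSeries.X : R⟦X⟧) ^ r) G)
      (PowerSeries.mk fun m => if r ∣ m + 1 then (r : R) * PowerSeries.coeff ((m + 1) / r - 1) a else 0) := by
  have hs : HasSubst ((PowerSeries.X : R⟦X⟧) ^ r) := HasSubst.X_pow hr.ne'
  unfold LogD at h ⊢
  rw [derivative_subst hs, h, ← coe_substAlgHom hs, map_mul, coe_substAlgHom hs, mul_assoc]
  congr 1
  rw [derivative_pow, derivative_X, mul_one]
  ext m
  rw [← expand_apply r hr.ne', coeff_mk, mul_comm, mul_assoc, ← map_natCast (PowerSeries.C (R := R)), coeff_C_mul,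
    coeff_X_pow_mul']
  by_cases hm : r - 1 ≤ m
  · rw [if_pos hm, coeff_expand]
    by_cases hd : r ∣ m + 1
    · obtain ⟨d, hd'⟩ := hd
      have hd0 : 1 ≤ d := by rcases d with - | d <;> simp_all
      have e : m - (r - 1) = r * (d - 1) := by rw [Nat.mul_sub]; omega
      rw [e, if_pos (dvd_mul_right r _), Nat.mul_div_cancel_left _ hr, hd',
        if_pos (dvd_mul_right r _), Nat.mul_div_cancel_left _ hr]
    · rw [if_neg hd, if_neg fun hd' => hd ?_, mul_zero]
      rw [show m + 1 = m - (r - 1) + r by omega]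
      exact dvd_add hd' dvd_rfl
  · rw [if_neg hm, if_neg fun hd => hm ?_, mul_zero]
    have := Nat.le_of_dvd (by omega) hd
    omega

theorem exists_ext {k : Type u} [Field k] [Finite k] {m : ℕ} (hm : 0 < m) :
    ∃ (K : Type u) (_ : Field K) (_ : Algebra k K) (_ : Finite K), Module.finrank k K = m := by
  obtain ⟨p, hp⟩ := CharP.exists k
  haveI : Fact p.Prime := ⟨CharP.char_is_prime k p⟩
  haveI : NeZero m := ⟨hm.ne'⟩
  exact ⟨ULift.{u} (FiniteField.Extension k p m), inferInstance, inferInstance, Finite.of_equiv _ Equiv.ulift.symm,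
    (ULift.moduleEquiv (R := k)).finrank_eq.trans (FiniteField.finrank_extension k p m)⟩

/-- The zeta function over a larger coefficient field. -/
theorem logD_zetaFun_map {K : Type*} [Field K] [CharZero K] {k : Type u} [Field k] {X : Scheme.{u}}
    (f : X ⟶ Spec (CommRingCat.of k)) :
    LogD (PowerSeries.map (algebraMap ℚ K) (Zeta.zetaFun f))
        (PowerSeries.mk fun m => (Zeta.nPts f (m + 1) : K)) ∧
      PowerSeries.constantCoeff (PowerSeries.map (algebraMap ℚ K) (Zeta.zetaFun f)) = 1 := by
  obtain ⟨h1, h2⟩ := logD_exp_subst (K := K) (fun m => (Zeta.nPts f m : ℚ)) (by simp [Zeta.nPts])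
  simp only [Rat.cast_natCast] at h1
  exact ⟨h1, h2⟩

end Groth.Agent.ZetaLib
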